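import Groth.Agent.Fga.JacFactor
import Groth.Agent.Fga.PicMon
import Groth.Agent.Fga.IntAdd
import Groth.Agent.Fga.MultInt
import Groth.Agent.VarietyB.DegCartier
import Groth.Agent.Sga2.LefPow644
import Groth.Agent.TautSh.K994.Fin
import Groth.Agent.CurvesB.HZero
import Groth.Agent.S0007

/-!
# The degree of a finite Cartier divisor through Euler characteristics

`deg_eq`: let `X` be proper of dimension at most one over a field `F`, `D` an effective Cartier divisor
of `X` which is finite over `F`.  If `M` represents `O_X(-D)` and `d = χ(O_X) - χ(M)`, then `D` is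
locally free of rank `d` over `F`.
-/

set_option autoImplicit false
set_option linter.style.haveILetI false

universe u

open CategoryTheory CategoryTheory.Limits AlgebraicGeometry TopologicalSpace Opposite
open Groth.Agent Groth.Agent.Grpsch.PicGrp Groth.Agent.Fga.RigGrp Groth.Agent.Fga.JacFactor

namespace K722.DivDeg

/-- The Euler characteristic of the structure sheaf of a finite scheme over a field. -/
theorem eulerCharLE_of_isFinite (F : Type u) [Field F] {W : Scheme.{u}} (w : W ⟶ Spec (CommRingCat.of F))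
    [IsFinite w] (d : ℕ) :
    (letI : W.Over (Spec (CommRingCat.of F)) := ⟨w⟩
     FGA.eulerCharLE F W (Coh.structureModule W) d) = (K994.Fin.dm w : ℤ) := by
  letI : W.Over (Spec (CommRingCat.of F)) := ⟨w⟩
  haveI := K994.Fin.isAffine_of_isFinite w
  haveI : Coh.IsQCoh (Coh.structureModule W) := CurvesC.UnitCoh.isQCoh_unit W
  have h0 : Module.finrank F (Coh.HH W (Coh.structureModule W) 0) = K994.Fin.dm w := by
    letI := CurvesB.HZero.moduleΓ F (Coh.structureModule W)
    exact (CurvesB.HZero.equivLin F (Coh.structureModule W)).finrank_eq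
  change FGA.eulerCharLE F W (Coh.structureModule W) d = _
  rw [FGA.eulerCharLE, Finset.sum_eq_single_of_mem 0 (Finset.mem_range.2 (Nat.succ_pos _))]
  · rw [pow_zero, one_mul, h0]
  · intro i _ hi
    have := S0007.result W (Coh.structureModule W) i (Nat.pos_of_ne_zero hi)
    rw [Module.finrank_zero_of_subsingleton]
    simp

/-- Additivity of the Euler characteristic for a closed subscheme. -/
theorem eulerCharLE_cut (F : Type u) [Field F] {X : Scheme.{u}} [X.Over (Spec (CommRingCat.of F))]
    [IsProper (X ↘ Spec (CommRingCat.of F))] (n : ℕ) (hdim : topologicalKrullDim X ≤ n) (I : X.IdealSheafData)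
    [I.subscheme.Over (Spec (CommRingCat.of F))]
    (hi : I.subschemeι ≫ (X ↘ Spec (CommRingCat.of F)) = I.subscheme ↘ Spec (CommRingCat.of F)) :
    FGA.eulerCharLE F X (Coh.structureModule X) n = FGA.eulerCharLE F X (ClSub.idealMod I) n +
      FGA.eulerCharLE F I.subscheme (Coh.structureModule I.subscheme) n := by
  have := Fga.IntAdd.isNoetherian F X
  have h := Fga.IntAdd.isAdd_euler F X n hdim _ (Sga2.LefPow644.shortExact_idealMod I)
    (VarietyB.DegCartier.isCoh_idealMod I) (CurvesC.UnitCoh.isCoh_unit X)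
    (CycB.ClosSheaf.isCoh_push_structureModule I.subschemeι)
  refine h.trans ?_
  congr 1
  exact Fga.MultInt.euler_push F I.subschemeι hi _ n

/-- **The degree of a finite Cartier divisor through Euler characteristics.** -/
theorem deg_eq {F : Type u} [Field F] {X : Scheme.{u}} (f : X ⟶ Spec (CommRingCat.of F)) [IsProper f]
    (hdim : topologicalKrullDim X ≤ 1) (I : X.IdealSheafData) (hE : BlowUp.IsEffCartierIdeal I)
    [IsFinite (I.subschemeι ≫ f)] {M : X.Modules} (hM : PicF.IsInvertible M) (h : mk M hM = dcl I hE) (d : ℕ)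
    (hd : letI : X.Over (Spec (CommRingCat.of F)) := ⟨f⟩;
      (d : ℤ) = FGA.eulerCharLE F X (Coh.structureModule X) 1 - FGA.eulerCharLE F X M 1) :
    Mor2.IsFinLocFreeOfDeg d (I.subschemeι ≫ f) := by
  letI : X.Over (Spec (CommRingCat.of F)) := ⟨f⟩
  letI : I.subscheme.Over (Spec (CommRingCat.of F)) := ⟨I.subschemeι ≫ f⟩
  haveI : IsProper (X ↘ Spec (CommRingCat.of F)) := ‹IsProper f›
  obtain ⟨e⟩ := (mk_eq_iff _ _).1 h
  have h1 : FGA.eulerCharLE F X M 1 = FGA.eulerCharLE F X (ClSub.idealMod I) 1 :=
    Fga.PicMon.euler_iso F X e 1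
  have h2 := eulerCharLE_cut F 1 (X := X) (by exact_mod_cast hdim) I rfl
  have h3 := eulerCharLE_of_isFinite F (I.subschemeι ≫ f) 1
  rw [K994.Fin.isFinLocFreeOfDeg_iff]
  refine ⟨inferInstance, ?_⟩
  have h4 : (d : ℤ) = (K994.Fin.dm (I.subschemeι ≫ f) : ℤ) := by
    rw [← h3]
    refine hd.trans ?_
    rw [h1, h2]
    exact add_sub_cancel_left _ _
  exact_mod_cast h4.symm

end K722.DivDeg
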