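import Groth.Agent.Neron.K722.DivDeg

/-!
# Nonnegativity of the degree of a finite Cartier divisor
-/

set_option autoImplicit false
set_option linter.style.haveILetI false

universe u

open CategoryTheory CategoryTheory.Limits AlgebraicGeometry TopologicalSpace Opposite
open Groth.Agent Groth.Agent.Grpsch.PicGrp Groth.Agent.Fga.RigGrp Groth.Agent.Fga.JacFactor

namespace K722.DivDeg

/-- `χ(O_X) - χ(M)` is the dimension of the space of functions on the divisor. -/
theorem chi_sub_eq {F : Type u} [Field F] {X : Scheme.{u}} (f : X ⟶ Spec (CommRingCat.of F)) [IsProper f]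
    (hdim : topologicalKrullDim X ≤ 1) (I : X.IdealSheafData) (hE : BlowUp.IsEffCartierIdeal I)
    [IsFinite (I.subschemeι ≫ f)] {M : X.Modules} (hM : PicF.IsInvertible M) (h : mk M hM = dcl I hE) :
    letI : X.Over (Spec (CommRingCat.of F)) := ⟨f⟩
    FGA.eulerCharLE F X (Coh.structureModule X) 1 - FGA.eulerCharLE F X M 1 =
      (K994.Fin.dm (I.subschemeι ≫ f) : ℤ) := by
  letI : X.Over (Spec (CommRingCat.of F)) := ⟨f⟩
  letI : I.subscheme.Over (Spec (CommRingCat.of F)) := ⟨I.subschemeι ≫ f⟩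
  haveI : IsProper (X ↘ Spec (CommRingCat.of F)) := ‹IsProper f›
  obtain ⟨e⟩ := (mk_eq_iff _ _).1 h
  have h1 : FGA.eulerCharLE F X M 1 = FGA.eulerCharLE F X (ClSub.idealMod I) 1 :=
    Fga.PicMon.euler_iso F X e 1
  have h2 := eulerCharLE_cut F 1 (X := X) (by exact_mod_cast hdim) I rfl
  have h3 := eulerCharLE_of_isFinite F (I.subschemeι ≫ f) 1
  change FGA.eulerCharLE F X (Coh.structureModule X) 1 - FGA.eulerCharLE F X M 1 = _
  rw [← h3, h1, h2]
  exact add_sub_cancel_left _ _

theorem deg_nonneg {F : Type u} [Field F] {X : Scheme.{u}} (f : X ⟶ Spec (CommRingCat.of F)) [IsProper f]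
    (hdim : topologicalKrullDim X ≤ 1) (I : X.IdealSheafData) (hE : BlowUp.IsEffCartierIdeal I)
    [IsFinite (I.subschemeι ≫ f)] {M : X.Modules} (hM : PicF.IsInvertible M) (h : mk M hM = dcl I hE) :
    letI : X.Over (Spec (CommRingCat.of F)) := ⟨f⟩
    0 ≤ FGA.eulerCharLE F X (Coh.structureModule X) 1 - FGA.eulerCharLE F X M 1 := by
  have h1 := chi_sub_eq f hdim I hE hM h
  rw [h1]
  exact Int.natCast_nonneg _

theorem exists_deg {F : Type u} [Field F] {X : Scheme.{u}} (f : X ⟶ Spec (CommRingCat.of F)) [IsProper f]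
    (hdim : topologicalKrullDim X ≤ 1) (I : X.IdealSheafData) (hE : BlowUp.IsEffCartierIdeal I)
    [IsFinite (I.subschemeι ≫ f)] {M : X.Modules} (hM : PicF.IsInvertible M) (h : mk M hM = dcl I hE) :
    letI : X.Over (Spec (CommRingCat.of F)) := ⟨f⟩
    ∃ d : ℕ, (d : ℤ) = FGA.eulerCharLE F X (Coh.structureModule X) 1 - FGA.eulerCharLE F X M 1 :=
  ⟨_, (chi_sub_eq f hdim I hE hM h).symm⟩

end K722.DivDeg
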